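import Cfsg.Agent.Lib.Components.CommAct
import Mathlib.GroupTheory.Frattini
import Mathlib.GroupTheory.Abelianization.Defs

/-!
# `[L, Q] = L`: fixed points in `L / L'`, the Frattini subgroup
-/

set_option autoImplicit false

namespace Cfsg.Agent.Lib.Components.CommAct2

open Cfsg Subgroup Cfsg.Agent.Lib.Components.Basic Cfsg.Agent.Lib.Components.Layer
open Cfsg.Agent.Lib.Components.GenFitting Cfsg.Agent.Lib.Components.Rel Cfsg.Agent.Lib.Subnormal.Basic
open Cfsg.Agent.Lib.CharP.Basic Cfsg.Agent.Lib.Core.Basic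
open Cfsg.Agent.Lib.Coprime.Action Cfsg.Agent.Lib.Components.Bender
open Cfsg.Agent.Lib.Components.CommAct Cfsg.Agent.Lib.Components.Commutator
open scoped commutatorElement Pointwise

universe u

/-- The norm argument: a `Q`-fixed element of `L = [L, Q]` has `|Q|`-torsion image in `L / L'`. -/
theorem of_pow_card_eq_one {G : Type u} [Group G] [Finite G] {L Q : Subgroup G}
    (hQL : Q ≤ normalizer (L : Set G)) (hL : ⁅L, Q⁆ = L) {n : L}
    (hnQ : (n : G) ∈ centralizer (Q : Set G)) : (Abelianization.of n) ^ Nat.card Q = 1 := by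
  classical
  have : Fintype Q := Fintype.ofFinite _
  let σ : Q → (L ≃* L) := fun q => conjOfNormalizer (hQL q.2)
  have hσ : ∀ (q : Q) (x : L), ((σ q x : L) : G) = q * x * (q : G)⁻¹ := fun q x => rfl
  let τ : L →* Abelianization L := ∏ q : Q, ((Abelianization.of : L →* Abelianization L).comp (σ q).toMonoidHom)
  have hτ : ∀ x, τ x = ∏ q : Q, Abelianization.of (σ q x) := by
    intro x
    simp [τ]
  have hτσ : ∀ (q₀ : Q) x, τ (σ q₀ x) = τ x := by
    intro q₀ x
    rw [hτ, hτ]
    apply Fintype.prod_equiv (Equiv.mulRight q₀)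
    intro q
    congr 1
    apply Subtype.ext
    simp only [hσ, Equiv.coe_mulRight, coe_mul, mul_inv_rev]
    group
  have hker : L ≤ (τ.ker).map L.subtype := by
    conv_lhs => rw [← hL]
    rw [commutator_le]
    intro a ha q hq
    refine ⟨⟨a, ha⟩ * (σ ⟨q, hq⟩ ⟨a, ha⟩)⁻¹, ?_, ?_⟩
    · show _ ∈ τ.ker
      rw [MonoidHom.mem_ker, map_mul, map_inv, hτσ, mul_inv_cancel]
    · simp only [coe_subtype, coe_mul, InvMemClass.coe_inv, hσ, commutatorElement_def]
      group
  have h1 : τ n = 1 := by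
    obtain ⟨m, hm, hmn⟩ := hker n.2
    have : m = n := Subtype.ext hmn
    rwa [← this]
  rw [hτ] at h1
  have h2 : ∀ q, σ q n = n := by
    intro q
    apply Subtype.ext
    rw [hσ]
    have := mem_centralizer_iff.mp hnQ q q.2
    rw [this]; group
  simp only [h2, Finset.prod_const, Finset.card_univ] at h1
  rwa [Nat.card_eq_fintype_card]

/-- `L = F*(L)`, `O_p(L) = 1`: the elements of `L / L'` have order prime to `p`. -/
theorem coprime_orderOf_of {G : Type u} [Group G] [Finite G] {p : ℕ} [Fact p.Prime] {L : Subgroup G}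
    (hFs : FsIn L = L) (hO : OpIn p L = ⊥) (n : L) :
    (orderOf (Abelianization.of n)).Coprime p := by
  have hn : (n : G) ∈ LayerIn L ⊔ FitIn L := by
    rw [← FsIn_eq, hFs]; exact n.2
  obtain ⟨e, he, f, hf, hef⟩ := mem_sup_of_le_normalizer
    ((LayerIn_le L).trans (le_normalizer_FitIn L)) hn
  obtain ⟨e', he', rfl⟩ := he
  obtain ⟨f', hf', rfl⟩ := hf
  have hne : n = e' * f' := Subtype.ext hef.symm
  have he1 : Abelianization.of e' = 1 := by
    rw [← MonoidHom.mem_ker, Abelianization.ker_of]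
    rw [← layer_perfect] at he'
    exact commutator_mono le_top le_top he'
  rw [hne, map_mul, he1, one_mul]
  have h2 : f' ∈ (fittingSubgroup ↥L) := hf'
  have h3 : (orderOf (f' : G)).Coprime p := by
    have h4 : (f' : G) ∈ FitIn L := ⟨f', hf', rfl⟩
    have h5 := FitIn_le_sup p L h4
    rw [hO, bot_sup_eq] at h5
    exact orderOf_coprime_of_mem_OppIn h5
  rw [Subgroup.orderOf_coe] at h3
  exact Nat.Coprime.coprime_dvd_left (orderOf_map_dvd _ _) h3

/-- A central element in the derived group lies in the Frattini subgroup. -/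
theorem mem_frattini_of_center_of_commutator {Γ : Type*} [Group Γ] {n : Γ} (hn : n ∈ center Γ)
    (hn2 : n ∈ commutator Γ) : n ∈ frattini Γ := by
  rw [frattini, Order.radical, mem_iInf]
  intro V
  rw [mem_iInf]
  intro hV
  by_contra hnV
  have hlt : V < V ⊔ center Γ := lt_of_le_of_ne le_sup_left (fun h => hnV (h ▸ mem_sup_right hn))
  have htop := hV.2 _ hlt
  rw [commutator_eq_of_sup_center htop] at hn2
  have hle : ⁅V, V⁆ ≤ V := commutator_le.2 fun a ha b hb =>
    mul_mem (mul_mem (mul_mem ha hb) (inv_mem ha)) (inv_mem hb)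
  exact hnV (hle hn2)

/-- Putting things together: an element of `L = [L, Q]` central in `L` and fixed by `Q` lies in
`Φ(L)`. -/
theorem mem_frattini_of_fixed {G : Type u} [Group G] [Finite G] {p : ℕ} [Fact p.Prime]
    {L Q : Subgroup G} (hQ : IsPGroup p Q) (hQL : Q ≤ normalizer (L : Set G)) (hL : ⁅L, Q⁆ = L)
    (hFs : FsIn L = L) (hO : OpIn p L = ⊥) {n : L}
    (hnQ : (n : G) ∈ centralizer (Q : Set G)) (hnL : n ∈ center L) : n ∈ frattini L := by
  apply mem_frattini_of_center_of_commutator hnL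
  rw [← Abelianization.ker_of, MonoidHom.mem_ker]
  have h1 := of_pow_card_eq_one hQL hL hnQ
  obtain ⟨k, hk⟩ := IsPGroup.iff_card.mp hQ
  rw [hk] at h1
  exact eq_one_of_pow_and_coprime (coprime_orderOf_of hFs hO n) h1

end Cfsg.Agent.Lib.Components.CommAct2
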