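import Cfsg.Agent.Lib.Components.CommAct
import Cfsg.Agent.Lib.Components.HatLayer
import Cfsg.Agent.Lib.Transfer.Cor
import Cfsg.Agent.Lib.Transfer.Focal
import Mathlib.RingTheory.ZMod.UnitsCyclic

/-!
# Finite groups with cyclic Sylow `p`-subgroups and `O_{p'} = 1`
-/

set_option autoImplicit false
set_option linter.unusedSectionVars false

namespace Cfsg.Agent.Lib.Components.CyclicSylow

open Cfsg Subgroup Cfsg.Agent.Lib.CharP.Basic Cfsg.Agent.Lib.Components.CommAct
open Cfsg.Agent.Lib.Components.Basic Cfsg.Agent.Lib.Components.Layer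
open Cfsg.Agent.Lib.Core.Basic Cfsg.Agent.Lib.Core.Residual
open Cfsg.Agent.Lib.Components.GenFitting
open scoped commutatorElement

universe u

variable {X : Type u} [Group X] [Finite X] {p : ℕ} [Fact p.Prime]

/-- All Sylow subgroups are cyclic, as soon as one is. -/
theorem isCyclic_sylow (P : Sylow p X) (hP : IsCyclic (P : Subgroup X)) (Q : Sylow p X) :
    IsCyclic (Q : Subgroup X) :=
  (MulEquiv.isCyclic (Sylow.equiv P Q)).mp hP

/-- In a finite cyclic group, the elements with `z ^ q = 1` are the powers of an element of order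
`q`. -/
theorem mem_zpowers_of_orderOf {C : Type u} [Group C] [Finite C] [IsCyclic C] {q : ℕ} (hq : 0 < q)
    {y z : C} (hy : orderOf y = q) (hz : z ^ q = 1) : z ∈ zpowers y := by
  classical
  let _ : Fintype C := Fintype.ofFinite _
  have hcard := IsCyclic.card_pow_eq_one_le (α := C) hq
  subst hy
  have hsub : (Finset.univ.filter (fun a : C => a ∈ zpowers y)) ⊆
      Finset.univ.filter (fun a : C => a ^ orderOf y = 1) := by
    intro a ha
    rw [Finset.mem_filter] at ha ⊢
    refine ⟨Finset.mem_univ _, ?_⟩
    obtain ⟨n, rfl⟩ := mem_zpowers_iff.mp ha.2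
    rw [← zpow_natCast, ← zpow_mul, mul_comm, zpow_mul, zpow_natCast, pow_orderOf_eq_one,
      one_zpow]
  have hcardp : (Finset.univ.filter (fun a : C => a ∈ zpowers y)).card = orderOf y := by
    rw [← Nat.card_zpowers y, Nat.card_eq_fintype_card, Fintype.card_subtype]
  have heq := Finset.eq_of_subset_of_card_le hsub (by rw [hcardp]; exact hcard)
  have hmem : z ∈ Finset.univ.filter (fun a : C => a ^ orderOf y = 1) := by
    rw [Finset.mem_filter]
    exact ⟨Finset.mem_univ _, hz⟩
  rw [← heq, Finset.mem_filter] at hmem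
  exact hmem.2

/-- In a finite group with cyclic Sylow `p`-subgroups, commuting elements of order `p` generate the
same subgroup. -/
theorem mem_zpowers_of_commute (hcyc : ∀ Q : Sylow p X, IsCyclic (Q : Subgroup X)) {y z : X}
    (hy : orderOf y = p) (hz : orderOf z = p) (hyz : Commute y z) : z ∈ zpowers y := by
  have hp : p.Prime := Fact.out
  have hYp : IsPGroup p (zpowers y) := by
    rw [IsPGroup.iff_card, Nat.card_zpowers, hy]
    exact ⟨1, (pow_one p).symm⟩
  have hZp : IsPGroup p (zpowers z) := by
    rw [IsPGroup.iff_card, Nat.card_zpowers, hz]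
    exact ⟨1, (pow_one p).symm⟩
  have hN : zpowers z ≤ normalizer ((zpowers y : Subgroup X) : Set X) := by
    rw [le_normalizer_iff]
    intro a ha b hb
    obtain ⟨n, rfl⟩ := mem_zpowers_iff.mp ha
    have hc : Commute (z ^ n) b := by
      obtain ⟨m, rfl⟩ := mem_zpowers_iff.mp hb
      exact ((hyz.symm.zpow_left n).zpow_right m)
    rw [hc.eq]
    simpa using hb
  have hW : IsPGroup p (zpowers y ⊔ zpowers z : Subgroup X) :=
    IsPGroup.to_sup_of_normal_left' hYp hZp hN
  obtain ⟨Q, hQ⟩ := hW.exists_le_sylow
  have : IsCyclic (Q : Subgroup X) := hcyc Q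
  have hyQ : y ∈ (Q : Subgroup X) := hQ (mem_sup_left (mem_zpowers y))
  have hzQ : z ∈ (Q : Subgroup X) := hQ (mem_sup_right (mem_zpowers z))
  have h1 : (⟨z, hzQ⟩ : (Q : Subgroup X)) ∈ zpowers (⟨y, hyQ⟩ : (Q : Subgroup X)) := by
    apply mem_zpowers_of_orderOf hp.pos
    · rw [Subgroup.orderOf_mk, hy]
    · apply Subtype.ext
      have h2 := pow_orderOf_eq_one z
      rw [hz] at h2
      simpa using h2
  obtain ⟨n, hn⟩ := mem_zpowers_iff.mp h1
  rw [mem_zpowers_iff]
  exact ⟨n, by simpa using congrArg Subtype.val hn⟩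

section comps

variable (h0 : pPrimeCore p X = ⊥) (hcyc : ∀ Q : Sylow p X, IsCyclic (Q : Subgroup X))
include h0 hcyc

omit hcyc in
theorem fitting_eq_pCore : fittingSubgroup X = pCore p X := by
  apply le_antisymm _ (pCore_le_fittingSubgroup p)
  rw [fittingSubgroup_eq_iSup_pCore]
  refine iSup_le fun q => ?_
  by_cases hq : (q : ℕ) = p
  · rw [hq]
  · have : Fact (q : ℕ).Prime := ⟨q.2⟩
    have h1 : pCore (q : ℕ) X ≤ pPrimeCore p X := by
      apply le_pPrimeCore (pCore_normal _ _)
      obtain ⟨n, hn⟩ := exists_card_pCore (p := (q : ℕ)) (G := X)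
      rw [hn]
      exact Nat.Coprime.pow_left _ ((Nat.coprime_primes q.2 Fact.out).mpr hq)
    rw [h0] at h1
    exact h1.trans bot_le

omit hcyc in
theorem dvd_card_of_isComponent {K : Subgroup X} (hK : IsComponent K) : p ∣ Nat.card K := by
  by_contra hnd
  have hKO : K ≤ pPrimeCore p X := le_pPrimeCore_of_isSubnormal hK.1
    ((Nat.Prime.coprime_iff_not_dvd Fact.out).mpr hnd).symm
  rw [h0, le_bot_iff] at hKO
  exact ne_bot_of_quasisimple hK.2 hKO

omit hcyc in
theorem exists_orderOf_of_isComponent {K : Subgroup X} (hK : IsComponent K) :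
    ∃ y ∈ K, orderOf y = p := by
  obtain ⟨y, hy⟩ := exists_prime_orderOf_dvd_card' p (dvd_card_of_isComponent h0 hK)
  exact ⟨y, y.2, by rw [Subgroup.orderOf_coe, hy]⟩

theorem center_component_eq_bot {K : Subgroup X} (hK : IsComponent K) : center K = ⊥ := by
  obtain ⟨T⟩ : Nonempty (Sylow p K) := inferInstance
  have hTcyc : IsCyclic (T : Subgroup K) := by
    have hW : IsPGroup p ((T : Subgroup K).map K.subtype) := T.2.map _
    obtain ⟨Q, hQ⟩ := hW.exists_le_sylow
    have := hcyc Q
    have hc : IsCyclic (((T : Subgroup K).map K.subtype).subgroupOf (Q : Subgroup X)) := inferInstance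
    have h1 : IsCyclic ((T : Subgroup K).map K.subtype) :=
      (MulEquiv.isCyclic (subgroupOfEquivOfLe hQ)).mp hc
    exact (MulEquiv.isCyclic ((T : Subgroup K).equivMapOfInjective K.subtype
      K.subtype_injective)).mpr h1
  have hTcomm : IsMulCommutative (T : Subgroup K) := by
    have := hTcyc
    let _ : CommGroup (T : Subgroup K) := IsCyclic.commGroup
    exact ⟨⟨fun a b => mul_comm a b⟩⟩
  -- the centre is a `p`-group
  have hZp : IsPGroup p (center K) := by
    have hs : ((center K).map K.subtype).IsSubnormal := by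
      refine Subgroup.IsSubnormal.trans (map_subtype_le _) ?_ hK.1
      have h1 : ((center K).map K.subtype).subgroupOf K = center K :=
        comap_map_eq_self_of_injective K.subtype_injective _
      rw [h1]
      exact (inferInstance : (center K).Normal).isSubnormal
    have hn : Group.IsNilpotent ((center K).map K.subtype) := by
      apply isNilpotent_of_isMulCommutative
    have h2 := le_fittingSubgroup_of_isSubnormal hs hn
    rw [fitting_eq_pCore h0] at h2
    have h3 : IsPGroup p ((center K).map K.subtype) := (Cfsg.Agent.Lib.Core.Basic.pCore_isPGroup (p := p)).to_le h2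
    exact IsPGroup.of_equiv h3 ((center K).equivMapOfInjective K.subtype K.subtype_injective).symm
  have hZT : center K ≤ (T : Subgroup K) := hZp.le_sylow_of_normal T
  have hHall := Cfsg.Agent.Lib.Transfer.Focal.abelian_hall_inf_eq_bot (T : Subgroup K) hTcomm
    T.card_coprime_index
  rw [hK.2.1.commutator_eq_top, inf_top_eq, inf_eq_right.mpr hZT] at hHall
  exact hHall

theorem eq_one_of_mem_component_of_forall_commute {K : Subgroup X} (hK : IsComponent K) {z : X}
    (hzK : z ∈ K) (hz : ∀ k ∈ K, k * z = z * k) : z = 1 := by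
  have h1 : (⟨z, hzK⟩ : K) ∈ center K := by
    rw [mem_center_iff]
    intro g
    exact Subtype.ext (hz g g.2)
  rw [center_component_eq_bot h0 hcyc hK, mem_bot] at h1
  exact congrArg Subtype.val h1

theorem pCore_eq_bot_of_isComponent {K : Subgroup X} (hK : IsComponent K) : pCore p X = ⊥ := by
  have hp : p.Prime := Fact.out
  by_contra hne
  obtain ⟨z, hzO, -, hzo⟩ := Cfsg.Agent.Lib.Components.LocalChar.exists_central_order
    (Cfsg.Agent.Lib.Core.Basic.pCore_isPGroup (p := p) (G := X)) hne
  obtain ⟨y, hyK, hyo⟩ := exists_orderOf_of_isComponent h0 hK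
  have hcomm : K ≤ centralizer (pCore p X : Set X) := by
    rw [← commutator_eq_bot_iff_le_centralizer, ← le_bot_iff, ← commutator_layer_fitting (G := X)]
    exact commutator_mono (le_layer_of_isComponent hK) (pCore_le_fittingSubgroup p)
  have hzK : z ∈ K := by
    have h1 := mem_zpowers_of_commute hcyc hyo hzo (mem_centralizer_iff.mp (hcomm hyK) z hzO).symm
    exact (zpowers_le.mpr hyK) h1
  have hz1 := eq_one_of_mem_component_of_forall_commute h0 hcyc hK hzK
    (fun k hk => (mem_centralizer_iff.mp (hcomm hk) z hzO).symm)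
  rw [hz1, orderOf_one] at hzo
  exact hp.one_lt.ne hzo

theorem component_unique {K K' : Subgroup X} (hK : IsComponent K) (hK' : IsComponent K') :
    K = K' := by
  have hp : p.Prime := Fact.out
  rcases component_eq_or_commutator_eq_bot hK hK' with h | h
  · exact h
  exfalso
  obtain ⟨y, hyK, hyo⟩ := exists_orderOf_of_isComponent h0 hK
  obtain ⟨z, hzK', hzo⟩ := exists_orderOf_of_isComponent h0 hK'
  have hcomm := commutator_eq_bot_iff_le_centralizer.mp h
  have hzK : z ∈ K := by
    have h1 := mem_zpowers_of_commute hcyc hyo hzo (mem_centralizer_iff.mp (hcomm hyK) z hzK').symm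
    exact (zpowers_le.mpr hyK) h1
  have hz1 := eq_one_of_mem_component_of_forall_commute h0 hcyc hK hzK
    (fun k hk => (mem_centralizer_iff.mp (hcomm hk) z hzK').symm)
  rw [hz1, orderOf_one] at hzo
  exact hp.one_lt.ne hzo

theorem layer_eq_of_isComponent {K : Subgroup X} (hK : IsComponent K) : layer X = K := by
  apply le_antisymm _ (le_layer_of_isComponent hK)
  refine sSup_le fun L hL => ?_
  rw [component_unique h0 hcyc hL hK]

theorem generalizedFitting_eq_of_isComponent {K : Subgroup X} (hK : IsComponent K) :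
    generalizedFittingSubgroup X = K := by
  rw [generalizedFittingSubgroup, layer_eq_of_isComponent h0 hcyc hK, fitting_eq_pCore h0,
    pCore_eq_bot_of_isComponent h0 hcyc hK, sup_bot_eq]

theorem isSimpleGroup_of_isComponent {K : Subgroup X} (hK : IsComponent K) : IsSimpleGroup K := by
  have := quasisimple_nontrivial hK.2
  refine ⟨fun N hN => ?_⟩
  rcases normal_eq_top_or_le_center hK.2 N with h | h
  · exact Or.inr h
  · rw [center_component_eq_bot h0 hcyc hK, le_bot_iff] at h
    exact Or.inl h

/-- A Sylow subgroup lies in the unique component. -/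
theorem sylow_le_of_isComponent {K : Subgroup X} (hK : IsComponent K) (P : Sylow p X) :
    (P : Subgroup X) ≤ K := by
  have hKn : K.Normal := by
    rw [← layer_eq_of_isComponent h0 hcyc hK]
    exact layer_normal
  set H := K ⊔ (P : Subgroup X) with hH
  have hKH : K ≤ H := le_sup_left
  have hPH : (P : Subgroup X) ≤ H := le_sup_right
  have hKn' : (K.subgroupOf H).Normal := inferInstance
  -- `O^p(H) ≤ K`
  have hres : pResidual p H ≤ K.subgroupOf H := by
    rw [pResidual, closure_le]
    intro x hx
    rw [SetLike.mem_coe, mem_subgroupOf]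
    have hxc : (orderOf (x : X)).Coprime p := by
      rw [Subgroup.orderOf_coe]
      exact hx
    have hPK : (P : Subgroup X) ≤ normalizer (K : Set X) := by
      rw [normalizer_eq_top_iff.mpr hKn]; exact le_top
    have hx2 : (x : X) ∈ (P : Subgroup X) ⊔ K := by
      rw [sup_comm]
      exact x.2
    obtain ⟨s, hs, k, hk, hsk⟩ := mem_sup_of_le_normalizer hPK hx2
    obtain ⟨n, hn⟩ := P.2 ⟨s, hs⟩
    have hn' : s ^ p ^ n = 1 := by simpa using congrArg Subtype.val hn
    have hmk : (QuotientGroup.mk' K) (x : X) = (QuotientGroup.mk' K) s := by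
      rw [← hsk, map_mul]
      have : (QuotientGroup.mk' K) k = 1 := by
        rw [← MonoidHom.mem_ker, QuotientGroup.ker_mk']
        exact hk
      rw [this, mul_one]
    have h1 : ((QuotientGroup.mk' K) (x : X)) ^ p ^ n = 1 := by
      rw [hmk, ← map_pow, hn', map_one]
    have h2 : (orderOf ((QuotientGroup.mk' K) (x : X))).Coprime p :=
      Nat.Coprime.coprime_dvd_left (orderOf_map_dvd _ _) hxc
    have h3 := eq_one_of_pow_and_coprime h2 h1
    rwa [← MonoidHom.mem_ker, QuotientGroup.ker_mk'] at h3
  -- `K ≤ O^p(H)`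
  have hKres : K.subgroupOf H ≤ pResidual p H := by
    have hquot : IsPGroup p (H ⧸ pResidual p H) := pResidual_quotient_isPGroup
    set A := (K.subgroupOf H).map (QuotientGroup.mk' (pResidual p H)) with hA
    have hAp : IsPGroup p A := hquot.to_subgroup A
    have hL : ⁅K.subgroupOf H, K.subgroupOf H⁆ = K.subgroupOf H :=
      commutator_self_of_quasisimple ((quasisimple_subgroupOf_iff hKH).mpr hK.2)
    have hAA : ⁅A, A⁆ = A := by
      rw [hA, ← Subgroup.map_commutator, hL]
    have hA' : A = ⊥ := Cfsg.Agent.Lib.Coprime.Ext.eq_bot_of_commutator_eq_self hAp hAp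
      le_normalizer hAA
    have := (Subgroup.map_eq_bot_iff _).mp hA'
    rwa [QuotientGroup.ker_mk'] at this
  have hEq : pResidual p H = K.subgroupOf H := le_antisymm hres hKres
  have hdvd : p ∣ Nat.card K := dvd_card_of_isComponent h0 hK
  -- a cyclic Sylow subgroup of `H`
  obtain ⟨S⟩ : Nonempty (Sylow p H) := inferInstance
  have hScyc : IsCyclic (S : Subgroup H) := by
    have hW : IsPGroup p ((S : Subgroup H).map H.subtype) := S.2.map _
    obtain ⟨Q, hQ⟩ := hW.exists_le_sylow
    have := hcyc Q
    have hc : IsCyclic (((S : Subgroup H).map H.subtype).subgroupOf (Q : Subgroup X)) := inferInstance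
    have h1 : IsCyclic ((S : Subgroup H).map H.subtype) :=
      (MulEquiv.isCyclic (subgroupOfEquivOfLe hQ)).mp hc
    exact (MulEquiv.isCyclic ((S : Subgroup H).equivMapOfInjective H.subtype
      H.subtype_injective)).mpr h1
  rcases Cfsg.Agent.Lib.Transfer.Cor.hasNormalPComplement_or_pResidual_eq_top S hScyc with h | h
  · exfalso
    rw [Cfsg.Agent.Lib.Transfer.Basic.hasNormalPComplement_iff_pResidual, hEq] at h
    have hcard : Nat.card (K.subgroupOf H) = Nat.card K :=
      Nat.card_congr (subgroupOfEquivOfLe hKH).toEquiv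
    rw [hcard] at h
    have := Nat.Coprime.coprime_dvd_left hdvd h
    exact (Fact.out : p.Prime).one_lt.ne' (by simpa using this)
  · rw [hEq, subgroupOf_eq_top] at h
    exact hPH.trans h

theorem not_dvd_index_of_isComponent {K : Subgroup X} (hK : IsComponent K) (P : Sylow p X) :
    ¬ p ∣ K.index := fun hd =>
  P.not_dvd_index (hd.trans (Subgroup.index_dvd_of_le (sylow_le_of_isComponent h0 hcyc hK P)))

end comps

section noComponents

variable (h0 : pPrimeCore p X = ⊥) (hl : layer X = ⊥) (P : Sylow p X)
  (hP : IsCyclic (P : Subgroup X)) (hd : p ∣ Nat.card X)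
include h0 hl hP

theorem eq_pCore_of_layer_eq_bot : (P : Subgroup X) = pCore p X := by
  apply le_antisymm _ (pCore_le_sylow P)
  have hgF : generalizedFittingSubgroup X = pCore p X := by
    rw [generalizedFittingSubgroup, hl, bot_sup_eq, fitting_eq_pCore h0]
  have hC := centralizer_generalizedFitting_le (G := X)
  rw [hgF] at hC
  refine le_trans ?_ hC
  rw [le_centralizer_iff]
  have h1 : IsMulCommutative (P : Subgroup X) := by
    let _ : CommGroup (P : Subgroup X) := IsCyclic.commGroup
    exact ⟨⟨fun a b => mul_comm a b⟩⟩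
  intro x hx
  rw [mem_centralizer_iff]
  intro y hy
  have := h1.is_comm.comm ⟨y, hy⟩ ⟨x, pCore_le_sylow P hx⟩
  exact congrArg Subtype.val this

theorem normal_of_layer_eq_bot : (P : Subgroup X).Normal := by
  rw [eq_pCore_of_layer_eq_bot h0 hl P hP]
  exact pCore_normal p X

theorem centralizer_eq_of_layer_eq_bot :
    centralizer ((P : Subgroup X) : Set X) = (P : Subgroup X) := by
  apply le_antisymm
  · rw [eq_pCore_of_layer_eq_bot h0 hl P hP]
    have hgF : generalizedFittingSubgroup X = pCore p X := by
      rw [generalizedFittingSubgroup, hl, bot_sup_eq, fitting_eq_pCore h0]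
    have hC := centralizer_generalizedFitting_le (G := X)
    rw [hgF] at hC
    exact hC
  · intro x hx
    have h1 : IsMulCommutative (P : Subgroup X) := by
      let _ : CommGroup (P : Subgroup X) := IsCyclic.commGroup
      exact ⟨⟨fun a b => mul_comm a b⟩⟩
    rw [mem_centralizer_iff]
    intro y hy
    have := h1.is_comm.comm ⟨y, hy⟩ ⟨x, hx⟩
    exact congrArg Subtype.val this

end noComponents

/-- The kernel of the conjugation action on a normal subgroup is its centralizer. -/
theorem ker_conjNormal_eq_centralizer {H : Subgroup X} [hn : H.Normal] :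
    (MulAut.conjNormal (H := H)).ker = centralizer (H : Set X) := by
  ext x
  rw [MonoidHom.mem_ker, mem_centralizer_iff]
  constructor
  · intro h y hy
    have h1 := congrArg (fun f : MulAut H => ((f ⟨y, hy⟩ : H) : X)) h
    simp only [MulAut.conjNormal_apply, MulAut.one_apply] at h1
    calc y * x = (x * y * x⁻¹) * x := by rw [h1]
      _ = x * y := by group
  · intro h
    ext y
    simp only [MulAut.conjNormal_apply, MulAut.one_apply]
    have := h y y.2
    calc x * (y : X) * x⁻¹ = (y : X) * x * x⁻¹ := by rw [this]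
      _ = y := by group

/-- A coprime quotient by a self-centralizing cyclic normal `p`-subgroup is cyclic with order
dividing `p - 1`. -/
theorem quotient_cyclic_of_self_centralizing {H : Subgroup X} [hn : H.Normal]
    (hc : IsCyclic H) (hcent : centralizer (H : Set X) = H) (hpg : IsPGroup p H)
    (hnd : ¬ p ∣ H.index) (hd : p ∣ Nat.card H) :
    IsCyclic (X ⧸ H) ∧ H.index ∣ p - 1 := by
  have hp := (Fact.out : p.Prime)
  have hker : (MulAut.conjNormal (H := H)).ker = H := by
    rw [ker_conjNormal_eq_centralizer, hcent]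
  obtain ⟨n, hn'⟩ := IsPGroup.iff_card.mp hpg
  have hn0 : n ≠ 0 := by
    rintro rfl
    rw [hn', pow_zero] at hd
    exact hp.one_lt.ne' (Nat.dvd_one.mp hd)
  have hcardaut : Nat.card (MulAut H) = p ^ (n - 1) * (p - 1) := by
    rw [IsCyclic.card_mulAut, hn', Nat.totient_prime_pow hp (Nat.pos_of_ne_zero hn0)]
  let e : (X ⧸ (MulAut.conjNormal (H := H)).ker) ≃* (MulAut.conjNormal (H := H)).range :=
    QuotientGroup.quotientKerEquivRange _
  have hrange : Nat.card (MulAut.conjNormal (H := H)).range = H.index := by
    have h1 := Nat.card_congr e.toEquiv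
    rw [← h1, Subgroup.index]
    rw [hker]
  have hdvd : H.index ∣ p ^ (n - 1) * (p - 1) := by
    rw [← hrange, ← hcardaut]
    exact Subgroup.card_subgroup_dvd_card _
  have hcop : Nat.Coprime H.index (p ^ (n - 1)) :=
    Nat.Coprime.pow_right _ ((Nat.Prime.coprime_iff_not_dvd hp).mpr hnd).symm
  have hidx : H.index ∣ p - 1 := hcop.dvd_of_dvd_mul_left hdvd
  refine ⟨?_, hidx⟩
  have hkerq : IsCyclic (X ⧸ (MulAut.conjNormal (H := H)).ker) := by
    by_cases hp2 : p = 2
    · -- index divides 1
      subst hp2
      have h1 : H.index = 1 := Nat.dvd_one.mp hidx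
      have h2 : Nat.card (X ⧸ (MulAut.conjNormal (H := H)).ker) = 1 := by
        rw [hker]; exact h1
      have : Subsingleton (X ⧸ (MulAut.conjNormal (H := H)).ker) :=
        (Nat.card_eq_one_iff_unique.mp h2).1
      exact isCyclic_of_subsingleton
    · have hcy : IsCyclic (ZMod (p ^ n))ˣ := ZMod.isCyclic_units_of_prime_pow p hp hp2 n
      have e2 : MulAut H ≃* (ZMod (p ^ n))ˣ := by
        have := IsCyclic.mulAutMulEquiv H
        rw [hn'] at this
        exact this
      have hcyA : IsCyclic (MulAut H) := (MulEquiv.isCyclic e2).mpr hcy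
      have hcyR : IsCyclic (MulAut.conjNormal (H := H)).range := Subgroup.isCyclic _
      exact (MulEquiv.isCyclic e).mpr hcyR
  exact (MulEquiv.isCyclic (QuotientGroup.quotientMulEquivOfEq hker)).mp hkerq

/-- The structure of a finite group with `O_{p'} = 1` and a cyclic Sylow `p`-subgroup. -/
theorem main (hd : p ∣ Nat.card X) (hO : pPrimeCore p X = ⊥) (P : Sylow p X)
    (hP : IsCyclic (P : Subgroup X)) :
    ((P : Subgroup X).Normal ∧ centralizer ((P : Subgroup X) : Set X) = (P : Subgroup X) ∧
      (∀ (_ : (P : Subgroup X).Normal), IsCyclic (X ⧸ (P : Subgroup X))) ∧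
        (P : Subgroup X).index ∣ p - 1) ∨
    (IsSimpleGroup (generalizedFittingSubgroup X) ∧
      ¬ IsMulCommutative (generalizedFittingSubgroup X) ∧
      ¬ p ∣ (generalizedFittingSubgroup X).index) := by
  have hp := (Fact.out : p.Prime)
  have hcyc := isCyclic_sylow P hP
  by_cases hl : layer X = ⊥
  · left
    have hN := normal_of_layer_eq_bot hO hl P hP
    have hC := centralizer_eq_of_layer_eq_bot hO hl P hP
    have hq := quotient_cyclic_of_self_centralizing (p := p) (H := (P : Subgroup X)) hP hC
      P.isPGroup' P.not_dvd_index (by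
        rw [← (P : Subgroup X).card_mul_index] at hd
        exact (hp.dvd_mul.mp hd).resolve_right P.not_dvd_index)
    exact ⟨hN, hC, fun _ => hq.1, hq.2⟩
  · right
    obtain ⟨K, hK⟩ : ∃ K : Subgroup X, IsComponent K := by
      by_contra hne
      push Not at hne
      apply hl
      rw [layer, sSup_eq_bot]
      intro K hK
      exact absurd hK (hne K)
    have hgF := generalizedFitting_eq_of_isComponent hO hcyc hK
    rw [hgF]
    refine ⟨isSimpleGroup_of_isComponent hO hcyc hK, ?_, not_dvd_index_of_isComponent hO hcyc hK P⟩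
    intro hcomm
    have hq := hK.2
    have h1 : IsMulCommutative K := hcomm
    exact quasisimple_not_nilpotent hq (isNilpotent_of_isMulCommutative)

end Cfsg.Agent.Lib.Components.CyclicSylow
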