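import Cfsg.Agent.Lib.Frobenius.Theorem
import Cfsg.Agent.Lib.Components.HatLayer

/-!
# A weakly closed element centralizing the `p'`-subgroups it normalizes is central
-/

set_option autoImplicit false
set_option linter.unusedSectionVars false

namespace Cfsg.Agent.Lib.Components.WeakClosedCent

open Cfsg Subgroup Cfsg.Agent.Lib.CharP.Basic
open Cfsg.Agent.Lib.Core.Basic Cfsg.Agent.Lib.Components.HatLayer
open Cfsg.Agent.Lib.Frobenius.Basic Cfsg.Agent.Lib.Frobenius.Theorem
open scoped commutatorElement Pointwise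

universe u

variable {p : ℕ} [Fact p.Prime]

/-- If all `p`-elements are central, each element is the product of a `p'`-core element and a
central `p`-element. -/
theorem exists_decomp_of_central {F : Type u} [Group F] [Finite F]
    (h : ∀ f : F, (∃ k : ℕ, f ^ p ^ k = 1) → f ∈ center F) (f : F) :
    ∃ a ∈ pPrimeCore p F, ∃ z : F, (∃ k : ℕ, z ^ p ^ k = 1) ∧ a * z = f := by
  let P : Sylow p F := Classical.arbitrary _
  have hcent : (P : Subgroup F) ≤ center F := by
    intro u hu
    obtain ⟨k, hk⟩ := (IsPGroup.iff_orderOf.mp P.isPGroup') ⟨u, hu⟩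
    apply h
    refine ⟨k, ?_⟩
    rw [Subgroup.orderOf_mk] at hk
    rw [← hk]; exact pow_orderOf_eq_one u
  have hN : normalizer ((P : Subgroup F) : Set F) ≤ centralizer ((P : Subgroup F) : Set F) := by
    intro y _
    rw [mem_centralizer_iff]
    intro x hx
    exact (mem_center_iff.mp (hcent hx) y).symm
  have hc : Nat.Coprime (Nat.card (MonoidHom.transferSylow P hN).ker) p :=
    ((Nat.Prime.coprime_iff_not_dvd Fact.out).mpr
      (MonoidHom.not_dvd_card_ker_transferSylow P hN)).symm
  have hle : (MonoidHom.transferSylow P hN).ker ≤ pPrimeCore p F :=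
    le_pPrimeCore (MonoidHom.normal_ker _) hc
  have hcompl := MonoidHom.ker_transferSylow_isComplement' P hN
  have hsup := hcompl.sup_eq_top
  have hf : f ∈ (MonoidHom.transferSylow P hN).ker ⊔ (P : Subgroup F) := by
    rw [hsup]; exact mem_top _
  rw [mem_sup_of_normal_left] at hf
  obtain ⟨a, ha, z, hz, rfl⟩ := hf
  obtain ⟨k, hk⟩ := (IsPGroup.iff_orderOf.mp P.isPGroup') ⟨z, hz⟩
  rw [Subgroup.orderOf_mk] at hk
  exact ⟨a, hle ha, z, ⟨k, by rw [← hk]; exact pow_orderOf_eq_one z⟩, rfl⟩

theorem card_lt_of_ne_top {G : Type u} [Group G] [Finite G] {H : Subgroup G} (hH : H ≠ ⊤) :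
    Nat.card H < Nat.card G := by
  have h1 := H.card_mul_index
  have h2 : H.index ≠ 1 := fun h => hH (Subgroup.index_eq_one.mp h)
  have h3 : H.index ≠ 0 := Subgroup.FiniteIndex.index_ne_zero
  have h4 : 0 < Nat.card H := Nat.card_pos
  have h5 : 2 ≤ H.index := by omega
  nlinarith

/-- A weakly closed element of a Sylow subgroup which centralizes every `p'`-subgroup it normalizes
is central. -/
theorem core : ∀ (n : ℕ) (G : Type u) [Group G] [Finite G] (S : Sylow p G) (x : G)
    (_ : x ∈ (S : Subgroup G)) (_ : ∀ g : G, g⁻¹ * x * g ∈ (S : Subgroup G) → g⁻¹ * x * g = x)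
    (_ : ∀ H : Subgroup G, (Nat.card H).Coprime p → (∀ h ∈ H, x * h * x⁻¹ ∈ H) →
      ∀ h ∈ H, x * h = h * x), Nat.card G = n → x ∈ center G := by
  intro n
  induction n using Nat.strong_induction_on with
  | _ n ih =>
  intro G _ _ S x hx hU hb hcard
  by_contra hxZ
  -- conjugates of `x` in a Sylow subgroup containing `x`
  have key1 : ∀ T : Sylow p G, x ∈ (T : Subgroup G) → ∀ k : G, k⁻¹ * x * k ∈ (T : Subgroup G) →
      k⁻¹ * x * k = x := by
    intro T hxT k hk
    obtain ⟨c, rfl⟩ := MulAction.exists_smul_eq G S T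
    have hmem : ∀ u : G, u ∈ ((c • S : Sylow p G) : Subgroup G) → c⁻¹ * u * c ∈ (S : Subgroup G) := by
      intro u hu
      rw [Sylow.coe_subgroup_smul, Subgroup.mem_pointwise_smul_iff_inv_smul_mem] at hu
      simpa [MulAut.smul_def, MulAut.conj_apply, mul_assoc, MulAut.conj_inv_apply] using hu
    have h1 := hU c (hmem _ hxT)
    have h2 := hU (k * c) (by
      have := hmem _ hk
      have e : (k * c)⁻¹ * x * (k * c) = c⁻¹ * (k⁻¹ * x * k) * c := by group
      rw [e]; exact this)
    have h3 : x = c * x * c⁻¹ := by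
      calc x = c * (c⁻¹ * x * c) * c⁻¹ := by group
        _ = c * x * c⁻¹ := by rw [h1]
    calc k⁻¹ * x * k = c * ((k * c)⁻¹ * x * (k * c)) * c⁻¹ := by group
      _ = c * x * c⁻¹ := by rw [h2]
      _ = x := h3.symm
  have hxp : ∃ m : ℕ, x ^ p ^ m = 1 := by
    obtain ⟨m, hm⟩ := (IsPGroup.iff_orderOf.mp S.isPGroup') ⟨x, hx⟩
    rw [Subgroup.orderOf_mk] at hm
    exact ⟨m, by rw [← hm]; exact pow_orderOf_eq_one x⟩
  have hzxp : IsPGroup p (zpowers x : Subgroup G) := S.isPGroup'.to_le (by rwa [zpowers_le])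
  -- Step A
  have stepA : ∀ k : G, k⁻¹ * x * k ≠ x → closure {x, k⁻¹ * x * k} = ⊤ := by
    intro k hk
    by_contra hne
    set y := k⁻¹ * x * k with hy
    set H : Subgroup G := closure {x, y} with hH
    have hxH : x ∈ H := subset_closure (Or.inl rfl)
    have hyH : y ∈ H := subset_closure (Or.inr rfl)
    let x' : H := ⟨x, hxH⟩
    have hzx'p : IsPGroup p (zpowers x' : Subgroup H) := by
      rw [IsPGroup.iff_card, Nat.card_zpowers, Subgroup.orderOf_mk, ← Nat.card_zpowers]
      exact IsPGroup.iff_card.mp hzxp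
    obtain ⟨SH, hSH⟩ := hzx'p.exists_le_sylow
    have hx'S : x' ∈ (SH : Subgroup H) := hSH (mem_zpowers x')
    have hShat : IsPGroup p ((SH : Subgroup H).map H.subtype) := SH.isPGroup'.map _
    obtain ⟨T, hT⟩ := hShat.exists_le_sylow
    have hxT : x ∈ (T : Subgroup G) := hT ⟨x', hx'S, rfl⟩
    have hlt := card_lt_of_ne_top hne
    have hcentral : x' ∈ center H := by
      refine ih (Nat.card H) (hcard ▸ hlt) H SH x' hx'S ?_ ?_ rfl
      · intro g hg
        have h1 : (g : G)⁻¹ * x * g ∈ (T : Subgroup G) := hT ⟨_, hg, rfl⟩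
        exact Subtype.ext (key1 T hxT g h1)
      · intro U hUc hUx u hu
        have h1 := hb (U.map H.subtype) (by
          have e : Nat.card (U.map H.subtype) = Nat.card U :=
            Nat.card_congr (U.equivMapOfInjective _ H.subtype_injective).symm.toEquiv
          rw [e]; exact hUc) (by
            rintro _ ⟨v, hv, rfl⟩
            exact ⟨_, hUx v hv, rfl⟩) u ⟨u, hu, rfl⟩
        exact Subtype.ext h1
    have hcomm : x * y = y * x := by
      have := (mem_center_iff.mp hcentral) ⟨y, hyH⟩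
      exact (congrArg Subtype.val this).symm
    -- a `p`-group
    have hzyp : IsPGroup p (zpowers y : Subgroup G) := by
      rw [IsPGroup.iff_card, Nat.card_zpowers]
      have : orderOf y = orderOf x := by
        have := (MulAut.conj k⁻¹).orderOf_eq x
        rw [← this, hy]
        congr 1
        simp
      rw [this, ← Nat.card_zpowers]
      exact IsPGroup.iff_card.mp hzxp
    have hN : (zpowers x : Subgroup G) ≤ normalizer ((zpowers y : Subgroup G) : Set G) := by
      rw [zpowers_le]
      rw [mem_normalizer_iff]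
      have hc : Commute x y := hcomm
      have hkk : ∀ m : ℤ, x * y ^ m * x⁻¹ = y ^ m := by
        intro m
        rw [(hc.zpow_right m).eq]
        group
      intro h
      constructor
      · rintro ⟨m, rfl⟩
        change x * y ^ m * x⁻¹ ∈ _
        rw [hkk]
        exact zpow_mem (mem_zpowers y) m
      · rintro ⟨m, hm⟩
        have h3 : y ^ m = x * h * x⁻¹ := hm
        have h4 := hkk m
        rw [h3] at h4
        have h5 : x * h * x⁻¹ = h := by
          have h6 : x * (x * h * x⁻¹) = x * h := mul_right_cancel h4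
          exact mul_left_cancel h6
        have h7 : h = y ^ m := by rw [h3, h5]
        rw [h7]
        exact zpow_mem (mem_zpowers y) m
    have hpp : IsPGroup p ((zpowers x ⊔ zpowers y : Subgroup G)) :=
      IsPGroup.to_sup_of_normal_right' hzxp hzyp hN
    obtain ⟨T₂, hT₂⟩ := hpp.exists_le_sylow
    have hxT₂ : x ∈ (T₂ : Subgroup G) := hT₂ (mem_sup_left (mem_zpowers x))
    have hyT₂ : y ∈ (T₂ : Subgroup G) := hT₂ (mem_sup_right (mem_zpowers y))
    exact hk (key1 T₂ hxT₂ k hyT₂)
  -- Step B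
  set D : Subgroup G := centralizer ({x} : Set G) with hD
  set Z : Subgroup G := center G with hZ
  have hZD : Z ≤ D := by
    intro z hz
    rw [hD, mem_centralizer_singleton_iff]
    exact (mem_center_iff.mp hz x).symm
  have hDtop : D ≠ ⊤ := by
    intro h
    apply hxZ
    rw [mem_center_iff]
    intro g
    have : g ∈ D := by rw [h]; exact mem_top _
    exact mem_centralizer_singleton_iff.mp this
  have hxD : x ∈ D := by
    rw [hD, mem_centralizer_singleton_iff]
  have hDint : ∀ g : G, g ∉ D → ∀ w ∈ D, g⁻¹ * w * g ∈ D → w ∈ Z := by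
    intro g hg w hw hw2
    have hy : g * x * g⁻¹ ≠ x := by
      intro h
      apply hg
      rw [hD, mem_centralizer_singleton_iff]
      calc g * x = g * x * g⁻¹ * g := by group
        _ = x * g := by rw [h]
    have h1 := stepA g⁻¹ (by simpa using hy)
    have h2 : closure {x, g⁻¹⁻¹ * x * g⁻¹} ≤ centralizer ({w} : Set G) := by
      rw [closure_le]
      rintro _ (rfl | rfl)
      · rw [SetLike.mem_coe, mem_centralizer_singleton_iff]
        exact (mem_centralizer_singleton_iff.mp hw).symm
      · rw [SetLike.mem_coe, mem_centralizer_singleton_iff]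
        have h3 := mem_centralizer_singleton_iff.mp hw2
        rw [inv_inv]
        have e1 : w = g * (g⁻¹ * w * g) * g⁻¹ := by group
        calc g * x * g⁻¹ * w = g * x * (g⁻¹ * w * g) * g⁻¹ := by group
          _ = g * ((g⁻¹ * w * g) * x) * g⁻¹ := by rw [mul_assoc g x, ← h3, ← mul_assoc]
          _ = w * (g * x * g⁻¹) := by group
    rw [h1] at h2
    rw [hZ, mem_center_iff]
    intro u
    exact mem_centralizer_singleton_iff.mp (h2 (mem_top u))
  let π : G →* G ⧸ Z := QuotientGroup.mk' Z
  have hπs : Function.Surjective π := QuotientGroup.mk'_surjective Z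
  have hπker : ∀ u : G, π u = 1 ↔ u ∈ Z := fun u => QuotientGroup.eq_one_iff u
  set Db : Subgroup (G ⧸ Z) := D.map π with hDb
  have hcomap : ∀ u : G, π u ∈ Db → u ∈ D := by
    rintro u ⟨d, hd, hde⟩
    have h1 : π (d⁻¹ * u) = 1 := by
      rw [map_mul, map_inv, hde]; simp
    have h2 := hZD ((hπker _).mp h1)
    have h3 := mul_mem hd h2
    simpa using h3
  have hx1 : π x ≠ 1 := fun h => hxZ ((hπker x).mp h)
  have hFC : IsFrobeniusComplement Db := by
    refine ⟨?_, ?_, ?_⟩
    · intro h
      have h1 : π x ∈ Db := ⟨x, hxD, rfl⟩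
      rw [h, mem_bot] at h1
      exact hx1 h1
    · intro h
      apply hDtop
      rw [eq_top_iff]
      intro u _
      apply hcomap
      rw [h]; exact mem_top _
    · intro g' hg'
      obtain ⟨g, rfl⟩ := hπs g'
      have hg : g ∉ D := fun h => hg' ⟨g, h, rfl⟩
      rw [eq_bot_iff]
      intro w' hw'
      obtain ⟨w, rfl⟩ := hπs w'
      obtain ⟨h1, h2⟩ := mem_inf.mp hw'
      rw [mem_conj_iff] at h2
      have h3 : π (g⁻¹ * w * g) ∈ Db := by
        rw [map_mul, map_mul, map_inv]; exact h2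
      have h4 := hDint g hg w (hcomap w h1) (hcomap _ h3)
      exact mem_bot.mpr ((hπker w).mpr h4)
  -- the kernel
  set Kb : Subgroup (G ⧸ Z) := kernel Db with hKb
  have hKbn : Kb.Normal := kernel_normal Db
  have hSD : (S : Subgroup G) ≤ D := by
    intro s hs
    have h1 : s⁻¹ * x * s ∈ (S : Subgroup G) := mul_mem (mul_mem (inv_mem hs) hx) hs
    have h2 := hU s h1
    rw [hD, mem_centralizer_singleton_iff]
    calc s * x = s * (s⁻¹ * x * s) := by rw [h2]
      _ = x * s := by group
  have hindex : ¬ p ∣ Nat.card Kb := by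
    rw [hKb, card_kernel hFC]
    have h1 : Db.comap π = D := by
      ext u
      exact ⟨hcomap u, fun h => ⟨u, h, rfl⟩⟩
    rw [← Subgroup.index_comap_of_surjective (H := Db) hπs, h1]
    intro h
    exact S.not_dvd_index (h.trans (Subgroup.index_dvd_of_le hSD))
  have hKbc : (Nat.card Kb).Coprime p :=
    ((Nat.Prime.coprime_iff_not_dvd Fact.out).mpr hindex).symm
  set F : Subgroup G := Kb.comap π with hF
  have hFn : F.Normal := hKbn.comap π
  -- `p`-elements of `F` are central in `G`
  have hFp : ∀ f ∈ F, (∃ k : ℕ, f ^ p ^ k = 1) → f ∈ Z := by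
    rintro f hf ⟨k, hk⟩
    rw [← hπker]
    have h1 : (⟨π f, hf⟩ : Kb) ^ p ^ k = 1 := by
      apply Subtype.ext
      change (π f) ^ p ^ k = 1
      rw [← map_pow, hk, map_one]
    have h2 : (orderOf (⟨π f, hf⟩ : Kb)).Coprime p :=
      Nat.Coprime.coprime_dvd_left (orderOf_dvd_natCard _) hKbc
    have h3 := eq_one_of_pow_and_coprime h2 h1
    exact congrArg Subtype.val h3
  -- `x` centralizes `F`
  have hxF : ∀ f ∈ F, x * f = f * x := by
    intro f hf
    have h1 : ∀ f : F, (∃ k : ℕ, f ^ p ^ k = 1) → f ∈ center F := by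
      rintro f ⟨k, hk⟩
      have h2 := hFp f f.2 ⟨k, congrArg Subtype.val hk⟩
      rw [mem_center_iff]
      intro g
      exact Subtype.ext (mem_center_iff.mp h2 g)
    obtain ⟨a, ha, z, ⟨k, hk⟩, haz⟩ := exists_decomp_of_central h1 ⟨f, hf⟩
    have hzZ := hFp z z.2 ⟨k, congrArg Subtype.val hk⟩
    have hPP : (a : G) ∈ PPIn p F := ⟨a, ha, rfl⟩
    have h2 := hb (PPIn p F) (card_PPIn_coprime F) (by
      intro h hh
      have h3 : x ∈ normalizer (F : Set G) := by
        rw [normalizer_eq_top_iff.mpr hFn]; exact mem_top _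
      exact (le_normalizer_iff.mp (normalizer_le_normalizer_PPIn F)) x h3 h hh) a hPP
    have h3 : f = a * z := (congrArg Subtype.val haz).symm
    rw [h3, ← mul_assoc, h2, mul_assoc, mem_center_iff.mp hzZ x, mul_assoc]
  -- contradiction
  have hKbne : Kb ≠ ⊥ := by
    intro h
    have h1 := kernel_isComplement' hFC
    have h2 := h1.sup_eq_top
    rw [← hKb, h, bot_sup_eq] at h2
    exact hFC.2.1 h2
  obtain ⟨⟨k', hk'⟩, hk'1⟩ := (Subgroup.ne_bot_iff_exists_ne_one).mp hKbne
  have hk'ne : k' ≠ 1 := fun h => hk'1 (Subtype.ext h)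
  obtain ⟨f, rfl⟩ := hπs k'
  have hfF : f ∈ F := hk'
  have hcomm := hxF f hfF
  by_cases hfD : π f ∈ Db
  · have h1 : π f ∈ Kb ⊓ Db := mem_inf.mpr ⟨hk', hfD⟩
    rw [hKb, kernel_inf_eq_bot hFC, mem_bot] at h1
    exact hk'ne h1
  · have h1 := hFC.2.2 (π f) hfD
    have h2 : π x ∈ Db ⊓ (MulAut.conj (π f) • Db) := by
      refine mem_inf.mpr ⟨⟨x, hxD, rfl⟩, ?_⟩
      rw [mem_conj_iff]
      have e : (π f)⁻¹ * π x * π f = π x := by
        rw [← map_inv, ← map_mul, ← map_mul]
        congr 1
        calc f⁻¹ * x * f = f⁻¹ * (x * f) := by group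
          _ = f⁻¹ * (f * x) := by rw [hcomm]
          _ = x := by group
      rw [e]
      exact ⟨x, hxD, rfl⟩
    rw [h1, mem_bot] at h2
    exact hx1 h2

theorem main {G : Type u} [Group G] [Finite G] (S : Sylow p G) (x : G) (hx : x ∈ (S : Subgroup G))
    (hU : ∀ g : G, g⁻¹ * x * g ∈ (S : Subgroup G) → g⁻¹ * x * g = x)
    (hb : ∀ H : Subgroup G, (Nat.card H).Coprime p → (∀ h ∈ H, x * h * x⁻¹ ∈ H) →
      ∀ h ∈ H, x * h = h * x) : x ∈ center G :=
  core _ G S x hx hU hb rfl

end Cfsg.Agent.Lib.Components.WeakClosedCent
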